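import Mathlib
import Groth.Agent.CommAlgDim.Depth

/-!
# Extensions of a module by itself which split outside codimension three
-/

set_option autoImplicit false

universe u

open CategoryTheory CommAlgDim
open scoped Pointwise

namespace QGorExtLib

/-- Without self-extensions in degree one a short exact sequence splits. -/
theorem exists_section_of_subsingleton_ext {T : Type u} [CommRing T] [HasDerivedCategory.{u + 1} (ModuleCat.{u} T)]
    {N : ModuleCat.{u} T} {M : DerivedCategory (ModuleCat.{u} T)} (n : ℤ)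
    (e : M ≅ (DerivedCategory.singleFunctor (ModuleCat.{u} T) n).obj N)
    (h : Subsingleton (M ⟶ M⟦(1 : ℤ)⟧))
    {S : ShortComplex (ModuleCat.{u} T)} (hS : S.ShortExact) (e₁ : S.X₁ ≅ N) (e₃ : S.X₃ ≅ N) :
    ∃ σ : S.X₃ ⟶ S.X₂, σ ≫ S.g = 𝟙 _ := by
  let G := DerivedCategory.singleFunctor (ModuleCat.{u} T) 0
  let sh := shiftFunctor (DerivedCategory (ModuleCat.{u} T)) (-n)
  let s : ∀ X : ModuleCat.{u} T, (G.obj X)⟦-n⟧ ≅ (DerivedCategory.singleFunctor (ModuleCat.{u} T) n).obj X :=
    fun X => (((DerivedCategory.singleFunctors (ModuleCat.{u} T)).shiftIso (-n) n 0 (by omega)).app X)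
  let a₁ : (G.obj S.X₁)⟦-n⟧ ≅ M := s _ ≪≫ (DerivedCategory.singleFunctor _ n).mapIso e₁ ≪≫ e.symm
  let a₃ : (G.obj S.X₃)⟦-n⟧ ≅ M := s _ ≪≫ (DerivedCategory.singleFunctor _ n).mapIso e₃ ≪≫ e.symm
  have h0 : hS.singleδ = 0 := by
    apply sh.map_injective
    let c : ((G.obj S.X₁)⟦(1 : ℤ)⟧)⟦-n⟧ ≅ M⟦(1 : ℤ)⟧ :=
      (shiftFunctorComm (DerivedCategory (ModuleCat.{u} T)) (1 : ℤ) (-n)).app _ ≪≫
        (shiftFunctor (DerivedCategory (ModuleCat.{u} T)) (1 : ℤ)).mapIso a₁
    rw [sh.map_zero, ← cancel_epi a₃.inv, ← cancel_mono c.hom]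
    exact h.elim _ _
  obtain ⟨g, hg⟩ := Pretriangulated.Triangle.coyoneda_exact₃ _ hS.singleTriangle_distinguished
    (X := G.obj S.X₃) (𝟙 _) (by
      show 𝟙 _ ≫ hS.singleδ = 0
      rw [h0, Limits.comp_zero])
  obtain ⟨σ, rfl⟩ := G.map_surjective g
  refine ⟨σ, G.map_injective ?_⟩
  rw [G.map_comp, G.map_id]
  exact hg.symm

variable {A : Type u} [CommRing A] [IsNoetherianRing A] {M E : Type u} [AddCommGroup M] [Module A M]
  [AddCommGroup E] [Module A E] [Module.Finite A M] (i : M →ₗ[A] E) (π : E →ₗ[A] M)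

/-- The scalars `a` such that `a • id` lifts along `π`. -/
def liftIdeal : Ideal A where
  carrier := {a | ∃ h : M →ₗ[A] E, π.comp h = a • LinearMap.id}
  add_mem' := by
    rintro a b ⟨h, hh⟩ ⟨k, hk⟩
    exact ⟨h + k, by rw [LinearMap.comp_add, hh, hk, add_smul]⟩
  zero_mem' := ⟨0, by rw [LinearMap.comp_zero, zero_smul]⟩
  smul_mem' := by
    rintro r a ⟨h, hh⟩
    exact ⟨r • h, by rw [LinearMap.comp_smul, hh, smul_smul, smul_eq_mul]⟩

omit [IsNoetherianRing A] [Module.Finite A M] in
theorem mem_liftIdeal (a : A) : a ∈ liftIdeal π ↔ ∃ h : M →ₗ[A] E, π.comp h = a • LinearMap.id :=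
  Iff.rfl

/-- A power of `f` lifts, if the localised sequence splits. -/
theorem exists_pow_mem_liftIdeal (hi : Function.Injective i) (hex : Function.Exact i π)
    (hπ : Function.Surjective π) (f : A) (T : Type u) [CommRing T] [Algebra A T] [IsLocalization.Away f T]
    {Mf : Type u} [AddCommGroup Mf] [Module A Mf] [Module T Mf] [IsScalarTower A T Mf] (g : M →ₗ[A] Mf)
    [IsLocalizedModule (Submonoid.powers f) g]
    (hsplit : ∀ (X : Type u) [AddCommGroup X] [Module T X] (i' : Mf →ₗ[T] X) (π' : X →ₗ[T] Mf),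
      Function.Injective i' → Function.Exact i' π' → Function.Surjective π' →
        ∃ h : Mf →ₗ[T] X, π'.comp h = LinearMap.id) :
    ∃ n : ℕ, f ^ n ∈ liftIdeal π := by
  let S := Submonoid.powers f
  let gE : E →ₗ[A] TensorProduct A T E := TensorProduct.mk A T E 1
  haveI : IsLocalizedModule S gE := inferInstanceAs (IsLocalizedModule S (TensorProduct.mk A T E 1))
  let iT := (IsLocalizedModule.map S g gE i).extendScalarsOfIsLocalization S T
  let πT := (IsLocalizedModule.map S gE g π).extendScalarsOfIsLocalization S T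
  obtain ⟨h', hh'⟩ := hsplit _ iT πT (IsLocalizedModule.map_injective S g gE i hi)
    (IsLocalizedModule.map_exact S g gE g i π hex) (IsLocalizedModule.map_surjective S gE g π hπ)
  haveI : Module.FinitePresentation A M := Module.finitePresentation_of_finite A M
  obtain ⟨h0, s, hs⟩ := Module.FinitePresentation.exists_lift_of_isLocalizedModule S gE
    ((h'.restrictScalars A).comp g)
  have hcomp : g.comp (π.comp h0) = g.comp ((s : A) • LinearMap.id) := by
    refine LinearMap.ext fun m => ?_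
    have h1 : IsLocalizedModule.map S gE g π (gE (h0 m)) = g (π (h0 m)) := IsLocalizedModule.map_apply _ _ _ _ _
    have h2 : gE (h0 m) = (s : A) • h' (g m) := LinearMap.congr_fun hs m
    have h3 : πT (h' (g m)) = g m := LinearMap.congr_fun hh' (g m)
    show g (π (h0 m)) = g ((s : A) • m)
    rw [← h1, h2, map_smul, map_smul]
    exact congrArg ((s : A) • ·) h3
  obtain ⟨t, ht⟩ := Module.Finite.exists_smul_of_comp_eq_of_isLocalizedModule S g _ _ hcomp
  obtain ⟨n, hn⟩ : ((t * s : S) : A) ∈ S := (t * s).2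
  refine ⟨n, (mem_liftIdeal π _).2 ⟨(t : A) • h0, ?_⟩⟩
  rw [show f ^ n = (t : A) * (s : A) from hn, mul_smul, LinearMap.comp_smul]
  exact ht

omit [IsNoetherianRing A] in
theorem depth_self_congr {p : Ideal A} [p.IsPrime] :
    LocCoh.depth (Localization.AtPrime p) (LocalizedModule p.primeCompl A) =
      LocCoh.depth (Localization.AtPrime p) (Localization.AtPrime p) :=
  CommAlgDim.idealDepth_congr _ (LinearEquiv.refl _ _)

omit [IsNoetherianRing A] in
/-- Membership in the ideal generated by `a` and `b`, seen in the iterated quotient. -/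
theorem mkQ_mkQ_eq_zero (a b x : A) :
    Submodule.mkQ (b • ⊤ : Submodule A (QuotSMulTop a A)) (Submodule.mkQ (a • ⊤ : Submodule A A) x) = 0 ↔
      ∃ s t, x = a * s + b * t := by
  constructor
  · intro hx
    obtain ⟨y, -, hy⟩ := (Submodule.mem_smul_pointwise_iff_exists _ _ _).1
      ((Submodule.Quotient.mk_eq_zero _).1 hx)
    obtain ⟨t, rfl⟩ := Submodule.mkQ_surjective _ y
    rw [← map_smul] at hy
    obtain ⟨s, -, hs⟩ := (Submodule.mem_smul_pointwise_iff_exists _ _ _).1
      ((Submodule.Quotient.eq _).1 hy.symm)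
    simp only [smul_eq_mul] at hs
    exact ⟨s, t, by linear_combination -hs⟩
  · rintro ⟨s, t, rfl⟩
    refine (Submodule.Quotient.mk_eq_zero _).2 ((Submodule.mem_smul_pointwise_iff_exists _ _ _).2
      ⟨Submodule.mkQ _ t, trivial, ?_⟩)
    rw [← map_smul]
    exact (Submodule.Quotient.eq _).2 ((Submodule.mem_smul_pointwise_iff_exists _ _ _).2
      ⟨-s, trivial, by simp only [smul_eq_mul]; ring⟩)

omit [IsNoetherianRing A] [Module.Finite A M] in
/-- Two lifts differ by a multiple of the inclusion. -/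
theorem exists_diff (hi : Function.Injective i) (hex : Function.Exact i π)
    (hEnd : Function.Surjective fun a : A => a • (LinearMap.id : M →ₗ[A] M)) {x y : A} {hx hy : M →ₗ[A] E}
    (h₁ : π.comp hx = x • LinearMap.id) (h₂ : π.comp hy = y • LinearMap.id) :
    ∃ r : A, ∀ m, y • hx m - x • hy m = r • i m := by
  have h0 : ∀ m, π (y • hx m - x • hy m) = 0 := fun m => by
    have e₁ : π (hx m) = x • m := LinearMap.congr_fun h₁ m
    have e₂ : π (hy m) = y • m := LinearMap.congr_fun h₂ m
    rw [map_sub, map_smul, map_smul, e₁, e₂, smul_comm, sub_self]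
  choose φ hφ using fun m => (hex _).1 (h0 m)
  let l : M →ₗ[A] M :=
    { toFun := φ
      map_add' := fun m m' => hi (by
        rw [map_add, hφ, hφ, hφ, map_add, map_add, smul_add, smul_add]; abel)
      map_smul' := fun r m => hi (by
        rw [RingHom.id_apply, map_smul, hφ, hφ, map_smul, map_smul, smul_sub, smul_comm r y, smul_comm r x]) }
  obtain ⟨r, hr⟩ := hEnd l
  refine ⟨r, fun m => ?_⟩
  rw [← hφ m, show φ m = r • m from (LinearMap.congr_fun hr m).symm, map_smul]

omit [IsNoetherianRing A] [Module.Finite A M] in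
theorem isSMulRegular_of_ext (hi : Function.Injective i) (hex : Function.Exact i π) {a : A}
    (ha : IsSMulRegular M a) {x : E} (hx : a • x = 0) : x = 0 := by
  have hπx : π x = 0 := ha (show a • π x = a • (0 : M) by rw [← map_smul, hx, map_zero, smul_zero])
  obtain ⟨m, rfl⟩ := (hex x).1 hπx
  rw [← map_smul, ← map_zero i] at hx
  rw [show m = 0 from ha (show a • m = a • (0 : M) by rw [hi hx, smul_zero]), map_zero]

omit [IsNoetherianRing A] [Module.Finite A M] in
/-- Division by `a` in the middle of the extension. -/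
theorem exists_div (hi : Function.Injective i) (hex : Function.Exact i π) (hπ : Function.Surjective π)
    {a b : A} (ha : IsSMulRegular M a) (hb : IsSMulRegular (QuotSMulTop a M) b)
    {x z : E} {m : M} (hx : π x = a • m) (h : b • x = a • z) : ∃ e, a • e = x := by
  obtain ⟨e₀, he₀⟩ := hπ m
  obtain ⟨m', hm'⟩ := (hex _).1 (show π (x - a • e₀) = 0 by rw [map_sub, map_smul, hx, he₀, sub_self])
  have h2 : i (b • m') = a • (z - b • e₀) := by
    rw [map_smul, hm', smul_sub, h, smul_sub, smul_comm b a]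
  obtain ⟨m'', hm''⟩ := (hex _).1 (show π (z - b • e₀) = 0 from ha (by
    show a • π (z - b • e₀) = a • (0 : M)
    rw [← map_smul, ← h2, smul_zero]
    exact (hex _).2 ⟨_, rfl⟩))
  rw [← hm'', ← map_smul] at h2
  obtain ⟨n, -, hn⟩ := (Submodule.mem_smul_pointwise_iff_exists m' a ⊤).1 <|
    (Submodule.Quotient.mk_eq_zero _).1 <| hb (
      show b • (Submodule.Quotient.mk m' : QuotSMulTop a M) = b • (0 : QuotSMulTop a M) by
        rw [smul_zero, ← Submodule.Quotient.mk_smul, hi h2]
        exact (Submodule.Quotient.mk_eq_zero _).2 (Submodule.smul_mem_pointwise_smul _ _ _ trivial))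
  exact ⟨e₀ + i n, by rw [smul_add, ← map_smul, hn, hm', add_sub_cancel]⟩

/-- An extension of `M` by `M`, where the endomorphisms of `M` are the scalars, which is locally split outside
a set where `A` has depth three and `M` depth two, splits. -/
theorem exists_section (hi : Function.Injective i) (hex : Function.Exact i π) (hπ : Function.Surjective π)
    (hEnd : Function.Bijective fun a : A => a • (LinearMap.id : M →ₗ[A] M))
    (hloc : ∀ (p : Ideal A) [p.IsPrime], (∃ a ∈ liftIdeal π, a ∉ p) ∨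
      ((3 : ℕ∞) ≤ LocCoh.depth (Localization.AtPrime p) (Localization.AtPrime p) ∧
        (2 : ℕ∞) ≤ LocCoh.depth (Localization.AtPrime p) (LocalizedModule p.primeCompl M))) :
    ∃ h : M →ₗ[A] E, π.comp h = LinearMap.id := by
  let I := liftIdeal π
  have hA : HasSeqIn I A 3 := (hasSeqIn_iff_forall_localization I 3).2 fun p hp hle => by
    rcases hloc p with ⟨a, ha, hap⟩ | h
    · exact absurd (hle ha) hap
    · rw [depth_self_congr]; exact_mod_cast h.1
  have hM : HasSeqIn I M 2 := (hasSeqIn_iff_forall_localization I 2).2 fun p hp hle => by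
    rcases hloc p with ⟨a, ha, hap⟩ | h
    · exact absurd (hle ha) hap
    · exact_mod_cast h.2
  obtain ⟨a, haI, ha⟩ := exists_isSMulRegular_mem (M := A × M) (I := I) fun p hp => by
    rw [associatedPrimes.prod] at hp
    rcases hp with h | h
    · exact (hasSeqIn_one_iff I).1 (hA.mono (by omega)) p h
    · exact (hasSeqIn_one_iff I).1 (hM.mono (by omega)) p h
  have haA : IsSMulRegular A a := fun x y h => (Prod.ext_iff.1 (@ha (x, 0) (y, 0) (Prod.ext h rfl))).1
  have haM : IsSMulRegular M a := fun x y h =>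
    (Prod.ext_iff.1 (@ha ((0 : A), x) (0, y) (Prod.ext rfl h))).2
  have hA1 : HasSeqIn I (QuotSMulTop a A) 2 := hA.quotSMulTop haI haA
  have hM1 : HasSeqIn I (QuotSMulTop a M) 1 := hM.quotSMulTop haI haM
  obtain ⟨b, hbI, hb⟩ := exists_isSMulRegular_mem (M := QuotSMulTop a A × QuotSMulTop a M) (I := I) fun p hp => by
    rw [associatedPrimes.prod] at hp
    rcases hp with h | h
    · exact (hasSeqIn_one_iff I).1 (hA1.mono (by omega)) p h
    · exact (hasSeqIn_one_iff I).1 hM1 p h
  have hbA : IsSMulRegular (QuotSMulTop a A) b := fun x y h =>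
    (Prod.ext_iff.1 (@hb (x, 0) (y, 0) (Prod.ext h rfl))).1
  have hbM : IsSMulRegular (QuotSMulTop a M) b := fun x y h =>
    (Prod.ext_iff.1 (@hb ((0 : QuotSMulTop a A), x) (0, y) (Prod.ext rfl h))).2
  obtain ⟨c, hcI, hc⟩ := exists_isSMulRegular_mem (M := QuotSMulTop b (QuotSMulTop a A)) (I := I)
    ((hasSeqIn_one_iff I).1 (hA1.quotSMulTop hbI hbA))
  obtain ⟨h_a, hha⟩ := (mem_liftIdeal π a).1 haI
  obtain ⟨h_b, hhb⟩ := (mem_liftIdeal π b).1 hbI
  obtain ⟨h_c, hhc⟩ := (mem_liftIdeal π c).1 hcI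
  obtain ⟨r, hr⟩ := exists_diff i π hi hex hEnd.2 hha hhb
  obtain ⟨r₂, hr₂⟩ := exists_diff i π hi hex hEnd.2 hha hhc
  obtain ⟨r₃, hr₃⟩ := exists_diff i π hi hex hEnd.2 hhb hhc
  have hid : c * r - b * r₂ + a * r₃ = 0 := hEnd.1 (LinearMap.ext fun m => hi (by
    show i ((c * r - b * r₂ + a * r₃) • m) = i ((0 : A) • m)
    rw [zero_smul, map_zero, map_smul, add_smul, sub_smul, mul_smul, mul_smul, mul_smul,
      ← hr, ← hr₂, ← hr₃, smul_sub, smul_sub, smul_sub, smul_comm c b, smul_comm c a, smul_comm b a]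
    abel))
  have hqr : Submodule.mkQ (b • ⊤ : Submodule A (QuotSMulTop a A))
      (Submodule.mkQ (a • ⊤ : Submodule A A) r) = 0 := hc (by
    show c • _ = c • (0 : QuotSMulTop b (QuotSMulTop a A))
    rw [smul_zero, ← map_smul, ← map_smul, smul_eq_mul]
    exact (mkQ_mkQ_eq_zero a b _).2 ⟨-r₃, r₂, by linear_combination hid⟩)
  obtain ⟨s, t, rfl⟩ := (mkQ_mkQ_eq_zero a b r).1 hqr
  have hdiv : ∀ m, ∃ e, a • e = h_a m - t • i m := fun m => by
    refine exists_div i π hi hex hπ haM hbM (m := m) (z := h_b m + s • i m) ?_ ?_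
    · rw [map_sub, map_smul, show π (h_a m) = a • m from LinearMap.congr_fun hha m,
        show π (i m) = 0 from (hex _).2 ⟨m, rfl⟩, smul_zero, sub_zero]
    · have e := hr m
      rw [add_smul, mul_smul, mul_smul, sub_eq_iff_eq_add] at e
      rw [smul_sub, e, smul_add]
      abel
  choose h hh using hdiv
  have hreg : ∀ x y : E, a • x = a • y → x = y := fun x y e =>
    sub_eq_zero.1 (isSMulRegular_of_ext i π hi hex haM (by rw [smul_sub, e, sub_self]))
  let L : M →ₗ[A] E :=
    { toFun := h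
      map_add' := fun x y => hreg _ _ (by
        rw [smul_add, hh, hh, hh, map_add, map_add, smul_add]; abel)
      map_smul' := fun r m => hreg _ _ (by
        rw [RingHom.id_apply, smul_comm a r, hh, hh, map_smul, map_smul, smul_sub, smul_comm r t]) }
  refine ⟨L, LinearMap.ext fun m => haM ?_⟩
  show a • π (h m) = a • m
  rw [← map_smul, hh, map_sub, map_smul, show π (h_a m) = a • m from LinearMap.congr_fun hha m,
    show π (i m) = 0 from (hex _).2 ⟨m, rfl⟩, smul_zero, sub_zero]

end QGorExtLib
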