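import Groth.Agent.QGorExtLib.Alg
import Groth.Agent.QGorEndLib.Main
import Groth.Agent.LocSuppLib.DepthStalk
import Groth.Agent.LocSuppLib.DepthTwo
import Groth.Agent.RGFlatLib.ModSheaf
import Groth.Agent.S14104

/-!
# Extensions of the relative canonical sheaf on an affine open
-/

set_option autoImplicit false
set_option linter.style.haveILetI false
set_option linter.unusedSectionVars false
set_option backward.isDefEq.respectTransparency false
set_option backward.isDefEq.respectTransparency.types false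
set_option maxHeartbeats 1000000
set_option synthInstance.maxHeartbeats 200000

noncomputable section

universe u

open CategoryTheory CategoryTheory.Limits AlgebraicGeometry
open Groth.Agent

attribute [local instance] HasDerivedCategory.standard

namespace QGorExtLib

section general
variable {X : Scheme.{u}} {F : X.Modules} [Coh.IsQCoh F]

/-- If the scalars are all the sheaf endomorphisms, they are all the endomorphisms of the sections over an
affine open. -/
theorem bijective_smul_of_isIso (hF : CohB1.IsFT F) [IsIso (QGorEndLib.scalarMap F)] {U : X.Opens}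
    (hU : IsAffineOpen U) :
    Function.Bijective fun a : Γ(X, U) => a • (LinearMap.id : Γ(F, U) →ₗ[Γ(X, U)] Γ(F, U)) := by
  have hb : Function.Bijective ((QGorEndLib.scalarMap F).app U) := ConcreteCategory.bijective_of_isIso _
  obtain ⟨I, _, e, he⟩ := QCohLib.exists_genOn_affine hF hU
  refine ⟨fun (r r' : Γ(X, U)) h => hb.1 (RefHullLib.hom_sec_ext _ _ fun y => LinearMap.ext fun v => ?_), fun φ => ?_⟩
  · obtain ⟨c, rfl⟩ := RefHullLib.surjective_of_genOn he y.1 y.2 v
    rw [Fintype.linearCombination_apply, map_sum, map_sum]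
    refine Finset.sum_congr rfl fun i _ => ?_
    rw [map_smul, map_smul]
    refine congrArg (_ • ·) ?_
    refine (QGorEndLib.scalarMap_val F U r y _).trans (Eq.trans ?_ (QGorEndLib.scalarMap_val F U r' y _).symm)
    rw [← Mero.germ_smul, ← Mero.germ_smul]
    exact congrArg (F.presheaf.germ U y.1 y.2) (LinearMap.congr_fun h (e i))
  · have hL : ∀ (y : X) (hy : y ∈ U), ∃ L : F.presheaf.stalk y →ₗ[X.presheaf.stalk y] F.presheaf.stalk y,
        ∀ m, L (F.presheaf.germ U y hy m) = F.presheaf.germ U y hy (φ m) := by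
      intro y hy
      letI := Module.compHom (F.presheaf.stalk y) (X.presheaf.germ U y hy).hom
      letI : Algebra Γ(X, U) (X.presheaf.stalk y) := (X.presheaf.germ U y hy).hom.toAlgebra
      haveI : IsScalarTower Γ(X, U) (X.presheaf.stalk y) (F.presheaf.stalk y) :=
        IsScalarTower.of_algebraMap_smul fun _ _ ↦ rfl
      let p := (hU.primeIdealOf ⟨y, hy⟩).asIdeal
      haveI : IsLocalization.AtPrime (X.presheaf.stalk y) p := hU.isLocalization_stalk ⟨y, hy⟩
      haveI := FlatLib.isLocalizedModule_germLin F hU hy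
      exact ⟨(IsLocalizedModule.map p.primeCompl (FlatLib.germLin F hy) (FlatLib.germLin F hy)
        φ).extendScalarsOfIsLocalization p.primeCompl (X.presheaf.stalk y),
        fun m => IsLocalizedModule.map_apply p.primeCompl (FlatLib.germLin F hy) (FlatLib.germLin F hy) φ m⟩
    obtain ⟨g, hg⟩ := RefHullLib.exists_sec_of_values he (fun i => φ (e i)) fun y hy c hc => by
      obtain ⟨L, hL⟩ := hL y hy
      have h := congrArg L hc
      rw [map_zero, map_sum] at h
      refine Eq.trans (Finset.sum_congr rfl fun i _ => ?_) h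
      rw [map_smul, hL]
    obtain ⟨(r : Γ(X, U)), hr⟩ := hb.2 g
    refine ⟨r, LinearMap.ext fun m => RefHullLib.germ_ext F _ _ fun y hy => ?_⟩
    obtain ⟨L, hL⟩ := hL y hy
    show F.presheaf.germ U y hy (r • m) = _
    rw [← hL, Mero.germ_smul]
    obtain ⟨c, hc⟩ := RefHullLib.surjective_of_genOn he y hy (F.presheaf.germ U y hy m)
    rw [← hc, Fintype.linearCombination_apply, map_sum, Finset.smul_sum]
    refine Finset.sum_congr rfl fun i _ => ?_
    rw [map_smul, smul_comm, hL, ← hg i, RefHullLib.germ_app]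
    refine congrArg (_ • ·) ?_
    rw [← hr, QGorEndLib.scalarMap_val]

/-- Depth of the localised sections is the depth of the stalk. -/
theorem le_depth_of_stalk [IsLocallyNoetherian X] (hF : CohB1.IsFT F) {U : X.Opens} (hU : IsAffineOpen U)
    (p : Ideal Γ(X, U)) [hp : p.IsPrime] (n : ℕ) (x : X) (hxp : hU.fromSpec ⟨p, hp⟩ = x)
    (h : (n : ℕ∞) ≤ LocCoh.depth (X.presheaf.stalk x) (F.presheaf.stalk x))
    (h₀ : (n + 1 : ℕ∞) ≤ LocCoh.depth (X.presheaf.stalk x) (X.presheaf.stalk x)) :
    (n + 1 : ℕ∞) ≤ LocCoh.depth (Localization.AtPrime p) (Localization.AtPrime p) ∧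
      (n : ℕ∞) ≤ LocCoh.depth (Localization.AtPrime p) (LocalizedModule p.primeCompl Γ(F, U)) := by
  haveI : IsNoetherianRing Γ(X, U) := IsLocallyNoetherian.component_noetherian ⟨U, hU⟩
  haveI : Module.Finite Γ(X, U) Γ(F, U) := QCohLib.finite_of_isFT hF hU
  have hx : x ∈ U := by
    have : hU.fromSpec ⟨p, hp⟩ ∈ (hU.fromSpec.opensRange : Set X) := ⟨_, rfl⟩
    rw [hU.opensRange_fromSpec, hxp] at this
    exact this
  have hq : hU.primeIdealOf ⟨x, hx⟩ = ⟨p, hp⟩ :=
    hU.fromSpec.isOpenEmbedding.injective ((hU.fromSpec_primeIdealOf ⟨_, hx⟩).trans hxp.symm)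
  have hqp : p = (hU.primeIdealOf ⟨x, hx⟩).asIdeal := by rw [hq]
  subst hqp
  letI := Module.compHom (F.presheaf.stalk x) (X.presheaf.germ U x hx).hom
  letI : Algebra Γ(X, U) (X.presheaf.stalk x) := (X.presheaf.germ U x hx).hom.toAlgebra
  haveI : IsScalarTower Γ(X, U) (X.presheaf.stalk x) (F.presheaf.stalk x) :=
    IsScalarTower.of_algebraMap_smul fun _ _ ↦ rfl
  haveI : IsLocalization.AtPrime (X.presheaf.stalk x) (hU.primeIdealOf ⟨x, hx⟩).asIdeal :=
    hU.isLocalization_stalk ⟨x, hx⟩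
  haveI := FlatLib.isLocalizedModule_germLin F hU hx
  refine ⟨?_, (LocSuppLib.le_depth_iff_localization _ (FlatLib.germLin F hx) n).1 h⟩
  rw [← QGorExtLib.depth_self_congr]
  exact_mod_cast (LocSuppLib.le_depth_iff_localization (hU.primeIdealOf ⟨x, hx⟩).asIdeal
    (Algebra.linearMap Γ(X, U) (X.presheaf.stalk x)) (n + 1)).1 (by exact_mod_cast h₀)

end general

variable {A : Type u} [CommRing A] [IsNoetherianRing A] {Y : Scheme.{u}} [Y.Over (Spec (CommRingCat.of A))]
  [IsProper (Y ↘ Spec (CommRingCat.of A))] [Flat (Y ↘ Spec (CommRingCat.of A))] {d : ℕ}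
  (hd : Cyc.HasRelDim (Y ↘ Spec (CommRingCat.of A)) d) {ω : Y.Modules}
  (hω : RelCanon.IsDualizingSheaf A Y d ω)

include hd hω in
/-- Over an affine open, an extension of the sections of the relative canonical sheaf by themselves splits when
the fibres satisfy `S₃`. -/
theorem exists_section_chart (hS : RelCanon.IsSkMor (Y ↘ Spec (CommRingCat.of A)) 2)
    (hS3 : ∀ y : Y, RelCanon.SkAt 3 (Coh.structureModule ((Y ↘ Spec (CommRingCat.of A)).fiber
      ((Y ↘ Spec (CommRingCat.of A)) y))) ((Y ↘ Spec (CommRingCat.of A)).asFiber y))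
    {U : Y.Opens} (hU : IsAffineOpen U) {E : Type u} [AddCommGroup E] [Module Γ(Y, U) E]
    (i : Γ(ω, U) →ₗ[Γ(Y, U)] E) (π : E →ₗ[Γ(Y, U)] Γ(ω, U)) (hi : Function.Injective i)
    (hex : Function.Exact i π) (hπ : Function.Surjective π) :
    ∃ h : Γ(ω, U) →ₗ[Γ(Y, U)] E, π.comp h = LinearMap.id := by
  let f := Y ↘ Spec (CommRingCat.of A)
  haveI : IsNoetherianRing (CommRingCat.of A) := ‹IsNoetherianRing A›
  haveI : IsLocallyNoetherian Y := LocallyOfFiniteType.isLocallyNoetherian f
  haveI : LocallyOfFinitePresentation f := ⟨fun {U} hU {W} hW e => by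
    haveI : IsNoetherianRing Γ(Spec (CommRingCat.of A), U) := IsLocallyNoetherian.component_noetherian ⟨U, hU⟩
    exact RingHom.FinitePresentation.of_finiteType.mp (LocallyOfFiniteType.finiteType_appLE f hU hW e)⟩
  haveI : IsNoetherianRing Γ(Y, U) := IsLocallyNoetherian.component_noetherian ⟨U, hU⟩
  let W : Y.Opens := ⟨{y | MoreMor.IsCMAt f y}, CMFlatLib.isOpen_isCMAt f⟩
  have hcod3 : ∀ y : Y, y ∉ W → (3 : WithBot ℕ∞) < ringKrullDim ((f.fiber (f y)).presheaf.stalk (f.asFiber y)) :=
    fun y hy => QGorEndLib.lt_dim_of_not_isCMAt f 3 y (hS3 y) hy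
  have hcod : ∀ y : Y, y ∉ W → (2 : WithBot ℕ∞) ≤ ringKrullDim ((f.fiber (f y)).presheaf.stalk (f.asFiber y)) :=
    fun y hy => le_of_lt (QGorEndLib.lt_dim_of_not_isCMAt f 2 y (hS.2.2 y) hy)
  have hcoh := QGorSecLib.isCoh_dualizing hd hω
  haveI := hcoh.1
  haveI := QGorEndLib.isIso_scalarMap hd hω hS
  haveI : Module.Finite Γ(Y, U) Γ(ω, U) := QCohLib.finite_of_isFT hcoh.2 hU
  refine exists_section i π hi hex hπ (bijective_smul_of_isIso hcoh.2 hU) fun p hp => ?_
  obtain ⟨x, hxp⟩ : ∃ x, hU.fromSpec ⟨p, hp⟩ = x := ⟨_, rfl⟩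
  have hxU : x ∈ U := by
    have : hU.fromSpec ⟨p, hp⟩ ∈ (hU.fromSpec.opensRange : Set Y) := ⟨_, rfl⟩
    rw [hU.opensRange_fromSpec, hxp] at this
    exact this
  have hq : hU.primeIdealOf ⟨x, hxU⟩ = ⟨p, hp⟩ :=
    hU.fromSpec.isOpenEmbedding.injective ((hU.fromSpec_primeIdealOf ⟨_, hxU⟩).trans hxp.symm)
  by_cases hxW : x ∈ W
  · left
    obtain ⟨g, hgW, hxg⟩ := hU.exists_basicOpen_le (V := W) ⟨x, hxW⟩ hxU
    letI := (Y.presheaf.map (homOfLE (Y.basicOpen_le g)).op).hom.toAlgebra
    letI : Module Γ(Y, U) Γ(ω, Y.basicOpen g) :=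
      Module.compHom _ (Y.presheaf.map (homOfLE (Y.basicOpen_le g)).op).hom
    haveI : IsScalarTower Γ(Y, U) Γ(Y, Y.basicOpen g) Γ(ω, Y.basicOpen g) :=
      IsScalarTower.of_algebraMap_smul fun _ _ => rfl
    haveI : IsLocalization.Away g Γ(Y, Y.basicOpen g) := hU.isLocalization_basicOpen g
    haveI := RGFlatLib.isLocalizedModule_resLin ω hU g fun _ _ => rfl
    obtain ⟨-, M, hM, ⟨e⟩⟩ := QGorEndLib.exists_cm_chart hd hω (hU.basicOpen g) fun y hy => hgW hy
    obtain ⟨n, hn⟩ := exists_pow_mem_liftIdeal i π hi hex hπ g Γ(Y, Y.basicOpen g)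
      (RGFlatLib.resLin ω (Y.basicOpen_le g) fun _ _ => rfl) fun X _ _ i' π' hi' hex' hπ' => by
        let S : ShortComplex (ModuleCat.{u} Γ(Y, Y.basicOpen g)) :=
          ShortComplex.mk (ModuleCat.ofHom i') (ModuleCat.ofHom π')
            (ModuleCat.hom_ext (LinearMap.ext fun m => (hex' _).2 ⟨m, rfl⟩))
        have hSe : S.ShortExact :=
          { exact := (ShortComplex.ShortExact.moduleCat_exact_iff_function_exact S).2 hex'
            mono_f := (ModuleCat.mono_iff_injective _).2 hi'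
            epi_g := (ModuleCat.epi_iff_surjective _).2 hπ' }
        obtain ⟨σ, hσ⟩ := exists_section_of_subsingleton_ext (-(d : ℤ)) e (hM 1 one_ne_zero) hSe
          (Iso.refl _) (Iso.refl _)
        exact ⟨σ.hom, ModuleCat.hom_ext_iff.1 hσ⟩
    refine ⟨g ^ n, hn, fun h => ?_⟩
    have hgp : g ∉ (hU.primeIdealOf ⟨x, hxU⟩).asIdeal :=
      (AssPointLib.mem_basicOpen_iff hU hxU g).1 hxg
    rw [hq] at hgp
    exact hgp (hp.mem_of_pow_mem n h)
  · right
    obtain ⟨e⟩ := RefHullLib.nonempty_stalk_unit Y x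
    refine le_depth_of_stalk hcoh.2 hU p 2 x hxp ?_ ?_
    · exact (LocSuppLib.depth_two_iff_bijective W hcoh).2 (QGorSecLib.extends_dualizing hd hω (U := W) hcod) x hxW
    · refine Groth.Agent.S14104.result f (W : Set Y)ᶜ W.isOpen.isClosed_compl 3 (fun y hy => ?_) x hxW
      haveI : IsLocallyNoetherian (f.fiber (f y)) :=
        haveI : LocallyOfFiniteType (f.fiberToSpecResidueField (f y)) :=
          inferInstanceAs (LocallyOfFiniteType (Limits.pullback.snd _ _))
        LocallyOfFiniteType.isLocallyNoetherian (f.fiberToSpecResidueField (f y))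
      obtain ⟨e'⟩ := RefHullLib.nonempty_stalk_unit (f.fiber (f y)) (f.asFiber y)
      have h1 := (DepthLib.hasSk_stalk_iff (f.asFiber y) 3).1 (DepthLib.hasSk_congr e'.symm 3 (hS3 y))
        (f.asFiber y) specializes_rfl
      rw [min_eq_left (by exact_mod_cast (hcod3 y hy).le)] at h1
      exact WithBot.coe_le_coe.1 h1

end QGorExtLib
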