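import Groth.Agent.CurveDualModLib.Hom
import Groth.Agent.RefHullLib.Coherent
import Groth.Agent.FlatLib.QStalk
import Groth.Agent.QCohLib.AffineFinite

/-!
# Morphisms from a quasi-coherent module of finite type on an affine scheme
-/

set_option autoImplicit false
set_option linter.style.haveILetI false
set_option backward.isDefEq.respectTransparency false
set_option backward.isDefEq.respectTransparency.types false

noncomputable section

universe u

open CategoryTheory CategoryTheory.Limits AlgebraicGeometry TopologicalSpace Opposite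

namespace QGorExtLib

variable {X : Scheme.{u}} {F G : X.Modules} [Coh.IsQCoh F]

/-- Morphisms agreeing on global sections agree, on an affine scheme. -/
theorem hom_ext_top [IsAffine X] (hF : CohB1.IsFT F) {φ ψ : F ⟶ G} (h : ∀ m, φ.app ⊤ m = ψ.app ⊤ m) :
    φ = ψ := by
  obtain ⟨I, _, e, he⟩ := QCohLib.exists_genOn_affine hF (isAffineOpen_top X)
  rw [← CurveDualModLib.toHom_ofHom φ, ← CurveDualModLib.toHom_ofHom ψ]
  refine congrArg _ (RefHullLib.hom_sec_ext _ _ fun y => LinearMap.ext fun v => ?_)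
  obtain ⟨c, rfl⟩ := RefHullLib.surjective_of_genOn he y.1 y.2 v
  rw [RefHull.ofHom_apply, RefHull.ofHom_apply, Fintype.linearCombination_apply, map_sum, map_sum]
  refine Finset.sum_congr rfl fun i _ => ?_
  rw [map_smul, map_smul, RefHull.stalkMapₗ_germ, RefHull.stalkMapₗ_germ, h]

/-- A linear map of global sections comes from a morphism, on an affine scheme. -/
theorem exists_hom_of_linearMap [IsAffine X] [Coh.IsQCoh G] (hF : CohB1.IsFT F)
    (t : Γ(F, ⊤) →ₗ[Γ(X, ⊤)] Γ(G, ⊤)) : ∃ φ : F ⟶ G, ∀ m, φ.app ⊤ m = t m := by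
  obtain ⟨I, _, e, he⟩ := QCohLib.exists_genOn_affine hF (isAffineOpen_top X)
  have hL : ∀ (y : X) (hy : y ∈ (⊤ : X.Opens)), ∃ L : F.presheaf.stalk y →ₗ[X.presheaf.stalk y] G.presheaf.stalk y,
      ∀ m, L (F.presheaf.germ ⊤ y hy m) = G.presheaf.germ ⊤ y hy (t m) := by
    intro y hy
    letI := Module.compHom (F.presheaf.stalk y) (X.presheaf.germ ⊤ y hy).hom
    letI := Module.compHom (G.presheaf.stalk y) (X.presheaf.germ ⊤ y hy).hom
    letI : Algebra Γ(X, ⊤) (X.presheaf.stalk y) := (X.presheaf.germ ⊤ y hy).hom.toAlgebra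
    haveI : IsScalarTower Γ(X, ⊤) (X.presheaf.stalk y) (F.presheaf.stalk y) :=
      IsScalarTower.of_algebraMap_smul fun _ _ ↦ rfl
    haveI : IsScalarTower Γ(X, ⊤) (X.presheaf.stalk y) (G.presheaf.stalk y) :=
      IsScalarTower.of_algebraMap_smul fun _ _ ↦ rfl
    let p := ((isAffineOpen_top X).primeIdealOf ⟨y, hy⟩).asIdeal
    haveI : IsLocalization.AtPrime (X.presheaf.stalk y) p := (isAffineOpen_top X).isLocalization_stalk ⟨y, hy⟩
    haveI := FlatLib.isLocalizedModule_germLin F (isAffineOpen_top X) hy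
    haveI := FlatLib.isLocalizedModule_germLin G (isAffineOpen_top X) hy
    exact ⟨(IsLocalizedModule.map p.primeCompl (FlatLib.germLin F hy) (FlatLib.germLin G hy)
      t).extendScalarsOfIsLocalization p.primeCompl (X.presheaf.stalk y),
      fun m => IsLocalizedModule.map_apply p.primeCompl (FlatLib.germLin F hy) (FlatLib.germLin G hy) t m⟩
  obtain ⟨g, hg⟩ := RefHullLib.exists_sec_of_values he (fun i => t (e i)) fun y hy c hc => by
    obtain ⟨L, hL⟩ := hL y hy
    have h := congrArg L hc
    rw [map_zero, map_sum] at h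
    refine Eq.trans (Finset.sum_congr rfl fun i _ => ?_) h
    rw [map_smul, hL]
  refine ⟨CurveDualModLib.toHom g, fun m => RefHullLib.germ_ext G _ _ fun y hy => ?_⟩
  obtain ⟨L, hL⟩ := hL y hy
  rw [← RefHull.stalkMapₗ_germ, CurveDualModLib.stalkMap_toHom g ⟨y, hy⟩, ← hL]
  obtain ⟨c, hc⟩ := RefHullLib.surjective_of_genOn he y hy (F.presheaf.germ ⊤ y hy m)
  rw [← hc, Fintype.linearCombination_apply, map_sum, map_sum]
  refine Finset.sum_congr rfl fun i _ => ?_
  rw [map_smul, map_smul, hL, ← hg i, RefHullLib.germ_app]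

end QGorExtLib
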