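import Groth.Agent.QGorExtLib.Chart
import Groth.Agent.QGorExtLib.Hom
import Groth.Agent.QCohLib.Vanishing
import Groth.Agent.QCohLib.QCoh

/-!
# Extensions of the relative canonical sheaf by itself are locally split
-/

set_option autoImplicit false
set_option linter.style.haveILetI false
set_option linter.unusedSectionVars false
set_option backward.isDefEq.respectTransparency false
set_option backward.isDefEq.respectTransparency.types false
set_option maxHeartbeats 1000000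
set_option synthInstance.maxHeartbeats 200000

noncomputable section

universe u

open CategoryTheory CategoryTheory.Limits AlgebraicGeometry
open Groth.Agent

attribute [local instance] HasDerivedCategory.standard

namespace QGorExtLib

variable {A : Type u} [CommRing A] [IsNoetherianRing A] {Y : Scheme.{u}} [Y.Over (Spec (CommRingCat.of A))]
  [IsProper (Y ↘ Spec (CommRingCat.of A))] [Flat (Y ↘ Spec (CommRingCat.of A))] {d : ℕ}
  (hd : Cyc.HasRelDim (Y ↘ Spec (CommRingCat.of A)) d) {ω : Y.Modules}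
  (hω : RelCanon.IsDualizingSheaf A Y d ω)

include hd hω in
/-- On an affine open an extension of the relative canonical sheaf by itself splits. -/
theorem exists_section_sheaf (hS : RelCanon.IsSkMor (Y ↘ Spec (CommRingCat.of A)) 2)
    (hS3 : ∀ y : Y, RelCanon.SkAt 3 (Coh.structureModule ((Y ↘ Spec (CommRingCat.of A)).fiber
      ((Y ↘ Spec (CommRingCat.of A)) y))) ((Y ↘ Spec (CommRingCat.of A)).asFiber y))
    {W : Y.Opens} (hW : IsAffineOpen W) (S : ShortComplex W.toScheme.Modules) (hSe : S.ShortExact)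
    (c₁ : S.X₁ ≅ ω.restrict W.ι) (c₃ : S.X₃ ≅ ω.restrict W.ι) :
    ∃ σ : S.X₃ ⟶ S.X₂, σ ≫ S.g = 𝟙 _ := by
  haveI : IsAffine W.toScheme := hW
  haveI : IsLocallyNoetherian Y := by
    haveI : IsNoetherianRing (CommRingCat.of A) := ‹IsNoetherianRing A›
    exact LocallyOfFiniteType.isLocallyNoetherian (Y ↘ Spec (CommRingCat.of A))
  have hcoh := QGorSecLib.isCoh_dualizing hd hω
  haveI := hcoh.1
  haveI : Coh.IsQCoh (ω.restrict W.ι) :=
    have := KFlatLib.isQCoh_pullback W.ι ω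
    QCohLib.isQCoh_of_iso ((Scheme.Modules.restrictFunctorIsoPullback W.ι).app ω).symm
  haveI : Coh.IsQCoh S.X₁ := QCohLib.isQCoh_of_iso c₁.symm
  haveI : Coh.IsQCoh S.X₃ := QCohLib.isQCoh_of_iso c₃.symm
  haveI : Coh.IsQCoh S.X₂ := QCohLib.isQCoh_of_shortExact hSe
  have hU₀ : IsAffineOpen (W.ι ''ᵁ ⊤) := (isAffineOpen_top W.toScheme).image_of_isOpenImmersion W.ι
  letI : Module Γ(Y, (W.ι ''ᵁ ⊤)) Γ(S.X₂, ⊤) := Module.compHom _ (show Γ(Y, (W.ι ''ᵁ ⊤)) →+* Γ(W.toScheme, ⊤) from RingHom.id Γ(W.toScheme, ⊤))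
  have hsm : ∀ (r : Γ(W.toScheme, ⊤)) (m : Γ(ω.restrict W.ι, ⊤)),
      (r • m : Γ(ω.restrict W.ι, ⊤)) = ((show Γ(Y, (W.ι ''ᵁ ⊤)) from r) • (show Γ(ω, (W.ι ''ᵁ ⊤)) from m)) := by
    intro r m
    change ((W.ι.appIso ⊤).inv r : Γ(Y, W.ι ''ᵁ ⊤)) • (show Γ(ω, W.ι ''ᵁ ⊤) from m) = _
    rw [Scheme.Opens.ι_appIso]
    rfl
  let a₁ := QGorEndLib.appEquiv c₁ ⊤
  let a₃ := QGorEndLib.appEquiv c₃ ⊤
  let i₀ : Γ(ω, (W.ι ''ᵁ ⊤)) →ₗ[Γ(Y, (W.ι ''ᵁ ⊤))] Γ(S.X₂, ⊤) :=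
    { toFun := fun m => S.f.app ⊤ (a₁.symm (show Γ(ω.restrict W.ι, ⊤) from m))
      map_add' := fun a b => by rw [← map_add, ← map_add]
      map_smul' := fun r m => by
        refine Eq.trans (congrArg (fun z => S.f.app ⊤ (a₁.symm z))
          (hsm (show Γ(W.toScheme, ⊤) from r) (show Γ(ω.restrict W.ι, ⊤) from m)).symm) ?_
        rw [map_smul]
        exact Scheme.Modules.Hom.app_smul S.f _ _ }
  let π₀ : Γ(S.X₂, ⊤) →ₗ[Γ(Y, (W.ι ''ᵁ ⊤))] Γ(ω, (W.ι ''ᵁ ⊤)) :=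
    { toFun := fun v => (show Γ(ω, (W.ι ''ᵁ ⊤)) from a₃ (S.g.app ⊤ v))
      map_add' := fun a b => by rw [map_add, map_add]
      map_smul' := fun r v => by
        refine Eq.trans (show a₃ (S.g.app ⊤ ((show Γ(W.toScheme, ⊤) from r) • v)) = _ from ?_)
          (hsm (show Γ(W.toScheme, ⊤) from r) (a₃ (S.g.app ⊤ v)))
        rw [Scheme.Modules.Hom.app_smul, map_smul] }
  haveI : Mono S.f := hSe.mono_f
  have hi : Function.Injective i₀ := fun a b h =>
    a₁.symm.injective (QCohLib.app_injective_of_mono S.f ⊤ h)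
  have hex : Function.Exact i₀ π₀ := fun v => by
    refine ⟨fun hv => ?_, ?_⟩
    · obtain ⟨w, hw⟩ := QCohLib.exists_of_app_eq_zero hSe.exact hSe.mono_f (U := ⊤) v
        (a₃.map_eq_zero_iff.1 hv)
      exact ⟨(show Γ(ω, (W.ι ''ᵁ ⊤)) from a₁ w), by
        show S.f.app ⊤ (a₁.symm (a₁ w)) = v
        rw [LinearEquiv.symm_apply_apply]; exact hw⟩
    · rintro ⟨m, rfl⟩
      refine a₃.map_eq_zero_iff.2 ?_
      exact congrArg (fun φ : S.X₁ ⟶ S.X₃ => φ.app ⊤ (a₁.symm (show Γ(ω.restrict W.ι, ⊤) from m))) S.zero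
  have hπ : Function.Surjective π₀ := fun m => by
    obtain ⟨v, hv⟩ := QCohLib.app_surjective_of_affine hSe (isAffineOpen_top _)
      (a₃.symm (show Γ(ω.restrict W.ι, ⊤) from m))
    exact ⟨v, (congrArg a₃ hv).trans (a₃.apply_symm_apply _)⟩
  obtain ⟨h, hh⟩ := exists_section_chart hd hω hS hS3 hU₀ i₀ π₀ hi hex hπ
  let t : Γ(S.X₃, ⊤) →ₗ[Γ(W.toScheme, ⊤)] Γ(S.X₂, ⊤) :=
    { toFun := fun v => h (show Γ(ω, (W.ι ''ᵁ ⊤)) from a₃ v)
      map_add' := fun a b => by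
        rw [map_add]
        exact map_add h (show Γ(ω, (W.ι ''ᵁ ⊤)) from a₃ a) (show Γ(ω, (W.ι ''ᵁ ⊤)) from a₃ b)
      map_smul' := fun r v => by
        refine Eq.trans (congrArg h ((map_smul a₃ r v).trans (hsm r (a₃ v)))) ?_
        exact map_smul h _ _ }
  have hft : CohB1.IsFT S.X₃ := QCohLib.isFT_of_iso c₃.symm
    (RefHullLib.isFT_restrict hcoh.2 W)
  obtain ⟨σ, hσ⟩ := exists_hom_of_linearMap hft t
  refine ⟨σ, hom_ext_top hft fun m => ?_⟩
  show S.g.app ⊤ (σ.app ⊤ m) = m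
  rw [hσ]
  exact a₃.injective (LinearMap.congr_fun hh (show Γ(ω, (W.ι ''ᵁ ⊤)) from a₃ m))

end QGorExtLib
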